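import Groth.Agent.Lib.MilnorSqH7.Glue
import Groth.Agent.Lib.ModM1.Fpqc
import Groth.Agent.Lib.TensorMod.PullStalk
import Groth.Prelude.Def_FlatMod2
import Groth.Prelude.Def_RefHull
import Mathlib.AlgebraicGeometry.Morphisms.ClosedImmersion

/-!
Quasi-coherent modules over a pinching square.
-/

universe u

open CategoryTheory Limits AlgebraicGeometry Opposite TopologicalSpace TensorProduct

set_option backward.isDefEq.respectTransparency false

namespace Groth.Agent.PinchH7

section algebra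

variable {R S T : Type u} [CommRing R] [CommRing S] [CommRing T] [Algebra R S] [Algebra R T]

/-- A pinching pair of algebras is one side of a Milnor square. -/
theorem pinch_core (hs : Function.Surjective (algebraMap R S))
    (h1 : RingHom.ker (algebraMap R T) ⊓ RingHom.ker (algebraMap R S) = ⊥)
    (h2 : ∀ a ∈ Ideal.map (algebraMap R T) (RingHom.ker (algebraMap R S)),
      ∃ i ∈ RingHom.ker (algebraMap R S), algebraMap R T i = a)
    (L : Type u) [AddCommGroup L] [Module R L] :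
    (Subsingleton (S ⊗[R] L) → Subsingleton (T ⊗[R] L) → Subsingleton L) ∧
    (Module.Flat S (S ⊗[R] L) → Module.Flat T (T ⊗[R] L) → Module.Flat R L) ∧
    (Module.Finite S (S ⊗[R] L) → Module.Finite T (T ⊗[R] L) → Module.Finite R L) ∧
    (Module.Flat S (S ⊗[R] L) → Module.FinitePresentation S (S ⊗[R] L) → Module.Flat T (T ⊗[R] L) →
      Module.FinitePresentation T (T ⊗[R] L) → Module.FinitePresentation R L) := by
  let K : Ideal T := (RingHom.ker (algebraMap R S)).map (algebraMap R T)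
  let e : (R ⧸ RingHom.ker (Algebra.ofId R S)) ≃ₐ[R] S :=
    Ideal.quotientKerAlgEquivOfSurjective (f := Algebra.ofId R S) hs
  let ψ : S →ₐ[R] T ⧸ K :=
    (Ideal.Quotient.liftₐ (RingHom.ker (Algebra.ofId R S)) (Algebra.ofId R (T ⧸ K)) fun a ha => by
      show algebraMap R (T ⧸ K) a = 0
      rw [IsScalarTower.algebraMap_apply R T (T ⧸ K), Ideal.Quotient.algebraMap_eq, Ideal.Quotient.eq_zero_iff_mem]
      exact Ideal.mem_map_of_mem _ ha).comp e.symm.toAlgHom
  letI : Algebra S (T ⧸ K) := ψ.toRingHom.toAlgebra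
  haveI : IsScalarTower R S (T ⧸ K) := IsScalarTower.of_algebraMap_eq fun r => (ψ.commutes r).symm
  have hsq : EtMil.IsFibreSquare R S T (T ⧸ K) := by
    refine ⟨Ideal.Quotient.mk_surjective, fun b a' hba => ?_⟩
    obtain ⟨c, rfl⟩ := hs b
    rw [← IsScalarTower.algebraMap_apply R S (T ⧸ K), IsScalarTower.algebraMap_apply R T (T ⧸ K)] at hba
    rw [Ideal.Quotient.algebraMap_eq] at hba
    obtain ⟨i, hi, hia⟩ := h2 _ (Ideal.Quotient.eq.1 hba.symm)
    refine ⟨c + i, ⟨by rw [map_add, RingHom.mem_ker.1 hi, add_zero], by rw [map_add, hia, add_sub_cancel]⟩, ?_⟩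
    rintro y ⟨hy1, hy2⟩
    have : y - (c + i) ∈ RingHom.ker (algebraMap R T) ⊓ RingHom.ker (algebraMap R S) := by
      refine ⟨?_, ?_⟩ <;> simp only [SetLike.mem_coe, RingHom.mem_ker, map_sub, map_add]
      · rw [hy2, hia, add_sub_cancel, sub_self]
      · rw [hy1, RingHom.mem_ker.1 hi, add_zero, sub_self]
    rw [h1, Ideal.mem_bot, sub_eq_zero] at this
    exact this
  refine ⟨fun _ _ => MilnorH7.subsingleton_of_pair L hsq, fun _ _ => MilnorH7.flat_of_pair hsq L,
    fun _ _ => MilnorH7.finite_of_pair L hsq, fun _ _ _ _ => MilnorH7.finitePresentation_of_pair hsq L⟩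

end algebra

variable {X Y : Scheme.{u}}

/-- Pullback keeps flatness. -/
theorem isFlat_pullback (f : Y ⟶ X) {M : X.Modules} (h : FlatMod.IsFlat M) :
    FlatMod.IsFlat ((Scheme.Modules.pullback f).obj M) := fun y =>
  haveI : Module.Flat (X.presheaf.stalk (f y)) (M.presheaf.stalk (f y) : Type u) := h (f y)
  Module.Flat.isBaseChange (X.presheaf.stalk (f y)) (Y.presheaf.stalk y) (M.presheaf.stalk (f y) : Type u) _ (M2.isBaseChange_stalkUnit f y M)

/-- Flatness is invariant under isomorphisms. -/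
theorem isFlat_of_iso {M N : X.Modules} (e : M ≅ N) (h : FlatMod.IsFlat M) : FlatMod.IsFlat N := fun x => by
  haveI : Module.Flat (X.presheaf.stalk x) (M.presheaf.stalk x : Type u) := h x
  refine Module.Flat.of_linearEquiv (M := (M.presheaf.stalk x : Type u))
    (LinearEquiv.ofBijective (RefHull.stalkMapₗ e.hom x) ?_).symm
  exact (M1.isIso_iff_stalk e.hom).1 inferInstance x

/-- A module on `Spec R` with flat stalks comes from a flat module. -/
theorem flat_of_isFlat_tilde {R : CommRingCat.{u}} (E : ModuleCat.{u} R)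
    (h : FlatMod.IsFlat (tilde E)) : Module.Flat R E := by
  let g (x : PrimeSpectrum R) : E →ₗ[R] (tilde E).presheaf.stalk x := (tilde.toStalk E x).hom
  haveI hg (x : PrimeSpectrum R) : IsLocalizedModule x.asIdeal.primeCompl (g x) :=
    inferInstanceAs (IsLocalizedModule x.asIdeal.primeCompl (tilde.toStalk E x).hom)
  refine @Module.flat_of_isLocalized_maximal R R _ _ _ E _ _ _ _
    (fun P hP => (tilde E).presheaf.stalk (⟨P, hP.isPrime⟩ : PrimeSpectrum R)) _ _ _
    (fun P _ => inferInstance) (fun P hP => g ⟨P, hP.isPrime⟩)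
    (fun P hP => hg ⟨P, hP.isPrime⟩) (fun P hP => ?_)
  let x : PrimeSpectrum R := ⟨P, hP.isPrime⟩
  letI : Algebra R ((Spec R).presheaf.stalk x) := StructureSheaf.stalkAlgebra R x
  haveI : IsLocalization.AtPrime ((Spec R).presheaf.stalk x) x.asIdeal :=
    StructureSheaf.IsLocalization.to_stalk R x
  haveI : IsScalarTower R ((Spec R).presheaf.stalk x) ((tilde E).presheaf.stalk x) :=
    IsScalarTower.of_algebraMap_smul fun _ _ => rfl
  haveI : Module.Flat ((Spec R).presheaf.stalk x) ((tilde E).presheaf.stalk x) := h x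
  exact (Module.flat_iff_of_isLocalization ((Spec R).presheaf.stalk x) x.asIdeal.primeCompl
    ((tilde E).presheaf.stalk x)).mp inferInstance

theorem subsingleton_of_isZero_tilde {R : CommRingCat.{u}} (E : ModuleCat.{u} R) (h : IsZero (tilde E)) :
    Subsingleton E := by
  have h1 : IsZero E := (IsZero.iff_id_eq_zero E).2 ((tilde.functor R).map_injective (h.eq_of_src _ _))
  exact ModuleCat.subsingleton_of_isZero h1

/-- A quasi-coherent module whose sections over all affine opens are flat is flat. -/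
theorem isFlat_of_flat_sections {M : X.Modules} [Coh.IsQCoh M]
    (h : ∀ V : X.Opens, IsAffineOpen V → Module.Flat Γ(X, V) Γ(M, V)) : FlatMod.IsFlat M := fun x => by
  obtain ⟨V, hV, hxV, -⟩ := exists_isAffineOpen_mem_and_subset (x := x) (U := ⊤) trivial
  haveI := h V hV
  letI := M1.stalkModule M hxV
  haveI := M1.isLocalizedModule_germ M hV hxV
  let := TopCat.Presheaf.algebra_section_stalk X.presheaf (⟨x, hxV⟩ : V)
  haveI := hV.isLocalization_stalk ⟨x, hxV⟩
  haveI : IsScalarTower Γ(X, V) (X.presheaf.stalk x) (M.presheaf.stalk x) :=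
    IsScalarTower.of_algebraMap_smul fun _ _ => rfl
  exact Module.Flat.isBaseChange Γ(X, V) (X.presheaf.stalk x) Γ(M, V) _
    (IsLocalizedModule.isBaseChange (hV.primeIdealOf ⟨x, hxV⟩).asIdeal.primeCompl (X.presheaf.stalk x)
      (M1.germₗ M hxV))

/-- A quasi-coherent module without sections over affine opens is zero. -/
theorem isZero_of_subsingleton_sections {M : X.Modules}
    (h : ∀ V : X.Opens, IsAffineOpen V → Subsingleton Γ(M, V)) : IsZero M := by
  have h0 : ∀ (x : X) (a : M.presheaf.stalk x), a = 0 := by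
    intro x a
    obtain ⟨W, hxW, s, rfl⟩ := M.presheaf.exists_germ_eq a
    obtain ⟨V, hV, hxV, hVW⟩ := exists_isAffineOpen_mem_and_subset (x := x) (U := W) hxW
    haveI := h V hV
    rw [← M1.germ_mres M hVW hxV s, Subsingleton.elim (M1.mres M hVW s) 0]
    exact map_zero _
  rw [IsZero.iff_id_eq_zero]
  haveI : Mono (0 : M ⟶ M) := (M1.mono_iff_stalk _).mpr fun x a b _ => (h0 x a).trans (h0 x b).symm
  exact (cancel_mono (0 : M ⟶ M)).mp (by simp)

/-- Finitely presented flat sections give a finite locally free module. -/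
theorem isFinLocFree_of_sections {M : X.Modules} [Coh.IsQCoh M]
    (hfp : ∀ V : X.Opens, IsAffineOpen V → Module.FinitePresentation Γ(X, V) Γ(M, V))
    (hfl : ∀ V : X.Opens, IsAffineOpen V → Module.Flat Γ(X, V) Γ(M, V)) : FlatMod.IsFinLocFree M := by
  rw [M1.isFinLocFree_iff]
  refine ⟨M1.isFP_of_finitePresentation_sections inferInstance hfp, fun x => ?_⟩
  obtain ⟨V, hV, hxV, -⟩ := exists_isAffineOpen_mem_and_subset (x := x) (U := ⊤) trivial
  haveI := hfp V hV
  haveI := hfl V hV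
  letI := M1.stalkModule M hxV
  haveI := M1.isLocalizedModule_germ M hV hxV
  let := TopCat.Presheaf.algebra_section_stalk X.presheaf (⟨x, hxV⟩ : V)
  haveI := hV.isLocalization_stalk ⟨x, hxV⟩
  haveI : IsScalarTower Γ(X, V) (X.presheaf.stalk x) (M.presheaf.stalk x) :=
    IsScalarTower.of_algebraMap_smul fun _ _ => rfl
  refine (Module.mem_freeLocus_of_isLocalization (hV.primeIdealOf ⟨x, hxV⟩) (X.presheaf.stalk x)
    (M.presheaf.stalk x) (M1.germₗ M hxV)).mp ?_
  rw [Module.freeLocus_eq_univ]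
  trivial

/-- The chart of an affine morphism over an affine open. -/
theorem exists_chart (u : Y ⟶ X) [IsAffineHom u] {G : X.Modules} (hG : Coh.IsQCoh G) {V : X.Opens}
    (hV : IsAffineOpen V) :
    Nonempty ((Scheme.Modules.pullback (hV.preimage u).fromSpec).obj ((Scheme.Modules.pullback u).obj G) ≅
      tilde ((ModuleCat.extendScalars (u.app V).hom).obj (moduleSpecΓFunctor.obj (G.restrict hV.fromSpec)))) := by
  refine M1.nonempty_chart_iso hG u hV (u.app V) _ ?_
  rw [← Scheme.Hom.appLE_eq_app]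
  exact (IsAffineOpen.SpecMap_appLE_fromSpec u hV (hV.preimage u) le_rfl).symm

section square

variable {X' Y' : Scheme.{u}} (f : X' ⟶ X) (u : Y' ⟶ X) [IsAffineHom f] [IsClosedImmersion u]
  (hM : ∀ V ∈ X.affineOpens,
    RingHom.ker (f.app V).hom ⊓ RingHom.ker (u.app V).hom = ⊥ ∧
    ∀ a ∈ Ideal.map (f.app V).hom (RingHom.ker (u.app V).hom),
      ∃ i ∈ RingHom.ker (u.app V).hom, (f.app V).hom i = a)
  {G : X.Modules} (hG : Coh.IsQCoh G)

include hM hG

theorem isZero_of_pair (h1 : IsZero ((Scheme.Modules.pullback u).obj G))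
    (h2 : IsZero ((Scheme.Modules.pullback f).obj G)) : IsZero G := by
  refine isZero_of_subsingleton_sections fun V hV => ?_
  obtain ⟨eu⟩ := exists_chart u hG hV
  obtain ⟨ef⟩ := exists_chart f hG hV
  letI : Algebra Γ(X, V) Γ(Y', u ⁻¹ᵁ V) := (u.app V).hom.toAlgebra
  letI : Algebra Γ(X, V) Γ(X', f ⁻¹ᵁ V) := (f.app V).hom.toAlgebra
  let L := moduleSpecΓFunctor.obj (G.restrict hV.fromSpec)
  have := (pinch_core (R := Γ(X, V)) (S := Γ(Y', u ⁻¹ᵁ V)) (T := Γ(X', f ⁻¹ᵁ V))
    (u.app_surjective V hV) (hM V hV).1 (hM V hV).2 L).1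
    (subsingleton_of_isZero_tilde _ (((Scheme.Modules.pullback _).map_isZero h1).of_iso eu.symm))
    (subsingleton_of_isZero_tilde _ (((Scheme.Modules.pullback _).map_isZero h2).of_iso ef.symm))
  exact @Equiv.subsingleton _ _ (M1.affineSecEquiv G hV).symm.toEquiv this

theorem isFlat_iff_pair : FlatMod.IsFlat G ↔
    FlatMod.IsFlat ((Scheme.Modules.pullback u).obj G) ∧ FlatMod.IsFlat ((Scheme.Modules.pullback f).obj G) := by
  refine ⟨fun h => ⟨isFlat_pullback u h, isFlat_pullback f h⟩, fun ⟨h1, h2⟩ => ?_⟩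
  haveI := hG
  refine isFlat_of_flat_sections fun V hV => ?_
  obtain ⟨eu⟩ := exists_chart u hG hV
  obtain ⟨ef⟩ := exists_chart f hG hV
  letI : Algebra Γ(X, V) Γ(Y', u ⁻¹ᵁ V) := (u.app V).hom.toAlgebra
  letI : Algebra Γ(X, V) Γ(X', f ⁻¹ᵁ V) := (f.app V).hom.toAlgebra
  let L := moduleSpecΓFunctor.obj (G.restrict hV.fromSpec)
  haveI : Module.Flat Γ(X, V) L := (pinch_core (R := Γ(X, V)) (S := Γ(Y', u ⁻¹ᵁ V)) (T := Γ(X', f ⁻¹ᵁ V))
    (u.app_surjective V hV) (hM V hV).1 (hM V hV).2 L).2.1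
    (flat_of_isFlat_tilde _ (isFlat_of_iso eu (isFlat_pullback _ h1)))
    (flat_of_isFlat_tilde _ (isFlat_of_iso ef (isFlat_pullback _ h2)))
  exact Module.Flat.of_linearEquiv (M := L) (M1.affineSecEquiv G hV).symm

theorem isFT_iff_pair : CohB1.IsFT G ↔
    CohB1.IsFT ((Scheme.Modules.pullback u).obj G) ∧ CohB1.IsFT ((Scheme.Modules.pullback f).obj G) := by
  refine ⟨fun h => ⟨M1.isFT_pullback u h, M1.isFT_pullback f h⟩, fun ⟨h1, h2⟩ => ?_⟩
  refine M1.isFT_of_finite_sections hG fun V hV => ?_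
  obtain ⟨eu⟩ := exists_chart u hG hV
  obtain ⟨ef⟩ := exists_chart f hG hV
  letI : Algebra Γ(X, V) Γ(Y', u ⁻¹ᵁ V) := (u.app V).hom.toAlgebra
  letI : Algebra Γ(X, V) Γ(X', f ⁻¹ᵁ V) := (f.app V).hom.toAlgebra
  let L := moduleSpecΓFunctor.obj (G.restrict hV.fromSpec)
  haveI : Module.Finite Γ(X, V) L := (pinch_core (R := Γ(X, V)) (S := Γ(Y', u ⁻¹ᵁ V)) (T := Γ(X', f ⁻¹ᵁ V))
    (u.app_surjective V hV) (hM V hV).1 (hM V hV).2 L).2.2.1
    (M1.finite_of_isFT_tilde _ (M1.isFT_of_isIso eu (M1.isFT_pullback _ h1)))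
    (M1.finite_of_isFT_tilde _ (M1.isFT_of_isIso ef (M1.isFT_pullback _ h2)))
  exact Module.Finite.equiv (M := L) (M1.affineSecEquiv G hV)

theorem isFinLocFree_iff_pair : FlatMod.IsFinLocFree G ↔
    FlatMod.IsFinLocFree ((Scheme.Modules.pullback u).obj G) ∧
      FlatMod.IsFinLocFree ((Scheme.Modules.pullback f).obj G) := by
  refine ⟨fun h => ⟨M2.isFinLocFree_pullback u h, M2.isFinLocFree_pullback f h⟩, fun ⟨h1, h2⟩ => ?_⟩
  haveI := hG
  have key : ∀ (V : X.Opens) (hV : IsAffineOpen V), Module.FinitePresentation Γ(X, V) Γ(G, V) ∧ Module.Flat Γ(X, V) Γ(G, V) := by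
    intro V hV
    obtain ⟨eu⟩ := exists_chart u hG hV
    obtain ⟨ef⟩ := exists_chart f hG hV
    letI : Algebra Γ(X, V) Γ(Y', u ⁻¹ᵁ V) := (u.app V).hom.toAlgebra
    letI : Algebra Γ(X, V) Γ(X', f ⁻¹ᵁ V) := (f.app V).hom.toAlgebra
    let L := moduleSpecΓFunctor.obj (G.restrict hV.fromSpec)
    have hu := M2.isFinLocFree_of_iso eu (M2.isFinLocFree_pullback _ h1)
    have hf := M2.isFinLocFree_of_iso ef (M2.isFinLocFree_pullback _ h2)
    have hc := pinch_core (R := Γ(X, V)) (S := Γ(Y', u ⁻¹ᵁ V)) (T := Γ(X', f ⁻¹ᵁ V))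
      (u.app_surjective V hV) (hM V hV).1 (hM V hV).2 L
    haveI : Module.Flat Γ(X, V) L := hc.2.1 (M1.flat_of_isFinLocFree_tilde _ hu) (M1.flat_of_isFinLocFree_tilde _ hf)
    haveI : Module.FinitePresentation Γ(X, V) L := hc.2.2.2 (M1.flat_of_isFinLocFree_tilde _ hu)
      (M1.finitePresentation_of_isFP_tilde _ (M1.isFP_of_isFinLocFree hu))
      (M1.flat_of_isFinLocFree_tilde _ hf)
      (M1.finitePresentation_of_isFP_tilde _ (M1.isFP_of_isFinLocFree hf))
    exact ⟨M1.finitePresentation_of_linearEquiv (A := L) (M1.affineSecEquiv G hV),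
      Module.Flat.of_linearEquiv (M := L) (M1.affineSecEquiv G hV).symm⟩
  exact isFinLocFree_of_sections (fun V hV => (key V hV).1) fun V hV => (key V hV).2

end square

end Groth.Agent.PinchH7
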