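import Groth.Prelude.Def_EtMil
import Mathlib.AlgebraicGeometry.Morphisms.ClosedImmersion
import Mathlib.Geometry.RingedSpace.SheafedSpace

/-! Sections of the structure sheaf of a pushout of ringed spaces form a fibre product. -/

universe u

open CategoryTheory Limits AlgebraicGeometry Opposite TopologicalSpace MvPolynomial

set_option backward.isDefEq.respectTransparency false

namespace Groth.Agent.PinchH7

abbrev RingedPSpace := PresheafedSpace.{u, u + 1, u} CommRingCat.{u}

/-- The presheaf of rings freely generated by one section over `V`. -/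
noncomputable def freePresheaf {T : TopCat.{u}} (V : Opens T) : T.Presheaf CommRingCat.{u} where
  obj U := CommRingCat.of (MvPolynomial (PLift (U.unop ≤ V)) (ULift.{u} ℤ))
  map {U U'} h := CommRingCat.ofHom
    (MvPolynomial.rename fun w => ⟨(leOfHom h.unop).trans w.down⟩).toRingHom
  map_id U := by
    ext1
    refine MvPolynomial.ringHom_ext (fun r => ?_) fun w => ?_
    · simp
    · simp
  map_comp {U U' U''} h h' := by
    ext1
    refine MvPolynomial.ringHom_ext (fun r => ?_) fun w => ?_
    · simp
    · simp

/-- The test object for sections over `V`. -/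
noncomputable def freeSpace (T : RingedPSpace.{u}) (V : Opens T.carrier) : RingedPSpace.{u} where
  carrier := T.carrier
  presheaf := freePresheaf V

/-- The universal section over `V`. -/
noncomputable def univSec (T : RingedPSpace.{u}) (V : Opens T.carrier) : (freeSpace T V).presheaf.obj (op V) :=
  (X ⟨le_refl V⟩ : MvPolynomial (PLift (V ≤ V)) (ULift.{u} ℤ))

/-- The morphism to the test object given by a section. -/
noncomputable def toFree {T S : RingedPSpace.{u}} (V : Opens T.carrier) (f : S.carrier ⟶ T.carrier)
    (a : S.presheaf.obj (op ((Opens.map f).obj V))) : S ⟶ freeSpace T V where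
  base := f
  c :=
    { app := fun U => CommRingCat.ofHom (MvPolynomial.eval₂Hom
        ((Int.castRingHom (S.presheaf.obj (op ((Opens.map f).obj U.unop)))).comp ULift.ringEquiv.toRingHom)
        fun w => S.presheaf.map ((Opens.map f).map (homOfLE w.down)).op a)
      naturality := fun {U U'} h => by
        ext1
        refine MvPolynomial.ringHom_ext (fun r => ?_) fun w => ?_
        · simp [freePresheaf, freeSpace]
        · simp only [freePresheaf, freeSpace, CommRingCat.hom_comp, RingHom.comp_apply, CommRingCat.hom_ofHom,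
            AlgHom.toRingHom_eq_coe, RingHom.coe_coe, rename_X, eval₂Hom_X']
          refine (eval₂Hom_X' _ _ _).trans ?_
          refine Eq.trans ?_ (congrArg _ (eval₂Hom_X' _ _ _)).symm
          erw [← CommRingCat.comp_apply, ← Functor.map_comp]
          rfl }

theorem toFree_univSec {T S : RingedPSpace.{u}} (V : Opens T.carrier) (f : S.carrier ⟶ T.carrier)
    (a : S.presheaf.obj (op ((Opens.map f).obj V))) : (toFree V f a).c.app (op V) (univSec T V) = a := by
  refine (eval₂Hom_X' _ _ _).trans ?_
  show S.presheaf.map ((Opens.map f).map (homOfLE le_rfl)).op a = a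
  rw [show ((Opens.map f).map (homOfLE (le_refl V))).op = 𝟙 _ from Subsingleton.elim _ _,
    CategoryTheory.Functor.map_id, CommRingCat.id_apply]

theorem toFree_eq {T S : RingedPSpace.{u}} (V : Opens T.carrier) (h : S ⟶ freeSpace T V) :
    h = toFree V h.base (h.c.app (op V) (univSec T V)) := by
  refine PresheafedSpace.ext _ _ rfl (NatTrans.ext (funext fun U => ?_))
  rw [show (h.c ≫ Functor.whiskerRight (eqToHom (by rfl)) S.presheaf) = h.c by simp; rfl]
  ext1
  refine MvPolynomial.ringHom_ext (fun r => ?_) fun w => ?_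
  · exact RingHom.congr_fun (RingHom.ext_int
      ((h.c.app U).hom.comp ((C : ULift.{u} ℤ →+* _).comp ULift.ringEquiv.symm.toRingHom))
      (((toFree V h.base (h.c.app (op V) (univSec T V))).c.app U).hom.comp
        ((C : ULift.{u} ℤ →+* _).comp ULift.ringEquiv.symm.toRingHom))) (ULift.down r)
  · refine Eq.trans ?_ (eval₂Hom_X' _ _ _).symm
    have := congr($(h.c.naturality (homOfLE w.down).op) (univSec T V))
    erw [CommRingCat.comp_apply, CommRingCat.comp_apply] at this
    refine Eq.trans ?_ this
    congr 1
    exact (rename_X (R := ULift.{u} ℤ) (σ := PLift (V ≤ V)) (τ := PLift (U.unop ≤ V))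
      (fun v => ⟨w.down.trans v.down⟩) ⟨le_refl V⟩).symm

theorem toFree_comp {T S S' : RingedPSpace.{u}} (V : Opens T.carrier) (g : S' ⟶ S) (f : S.carrier ⟶ T.carrier)
    (a : S.presheaf.obj (op ((Opens.map f).obj V))) :
    g ≫ toFree V f a = toFree V (g.base ≫ f) (g.c.app (op ((Opens.map f).obj V)) a) := by
  refine (toFree_eq V _).trans (congrArg (toFree V (g.base ≫ f)) ?_)
  show g.c.app _ ((toFree V f a).c.app (op V) (univSec T V)) = _
  rw [toFree_univSec]
  rfl

theorem toFree_congr {T S : RingedPSpace.{u}} (V : Opens T.carrier) {f f' : S.carrier ⟶ T.carrier} (hf : f = f')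
    (a : S.presheaf.obj (op ((Opens.map f).obj V))) (a' : S.presheaf.obj (op ((Opens.map f').obj V)))
    (ha : S.presheaf.map (eqToHom (congrArg (fun g => op ((Opens.map g).obj V)) hf)) a = a') :
    toFree V f a = toFree V f' a' := by
  subst hf
  rw [← ha, eqToHom_refl, CategoryTheory.Functor.map_id, CommRingCat.id_apply]

variable {W U₁ U₂ P : RingedPSpace.{u}} {i : W ⟶ U₁} {j : W ⟶ U₂} {f : U₁ ⟶ P} {g : U₂ ⟶ P}

/-- Sections over `V` of a pushout are pairs of sections agreeing on the common part. -/
theorem existsUnique_section (h : IsPushout i j f g) (V : Opens P.carrier)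
    (a : U₁.presheaf.obj (op ((Opens.map f.base).obj V))) (b : U₂.presheaf.obj (op ((Opens.map g.base).obj V)))
    (hab : W.presheaf.map (eqToHom (congrArg (fun k => op ((Opens.map k).obj V))
        (congrArg PresheafedSpace.Hom.base h.w : i.base ≫ f.base = j.base ≫ g.base)))
        (i.c.app (op ((Opens.map f.base).obj V)) a) = j.c.app (op ((Opens.map g.base).obj V)) b) :
    ∃! s : P.presheaf.obj (op V), f.c.app (op V) s = a ∧ g.c.app (op V) s = b := by
  have hb : IsPushout i.base j.base f.base g.base := h.map (PresheafedSpace.forget CommRingCat.{u})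
  have hcomp : i ≫ toFree V f.base a = j ≫ toFree V g.base b := by
    rw [toFree_comp, toFree_comp]
    exact toFree_congr V (congrArg PresheafedSpace.Hom.base h.w) _ _ hab
  let δ := h.desc (toFree V f.base a) (toFree V g.base b) hcomp
  have h1 : f ≫ δ = toFree V f.base a := h.inl_desc _ _ _
  have h2 : g ≫ δ = toFree V g.base b := h.inr_desc _ _ _
  have hbase : δ.base = 𝟙 P.carrier := hb.hom_ext
    ((congrArg PresheafedSpace.Hom.base h1).trans (Category.comp_id f.base).symm)
    ((congrArg PresheafedSpace.Hom.base h2).trans (Category.comp_id g.base).symm)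
  have key : ∀ s : P.presheaf.obj (op V), (f.c.app (op V) s = a ∧ g.c.app (op V) s = b) ↔
      toFree V (𝟙 P.carrier) s = δ := by
    intro s
    constructor
    · rintro ⟨rfl, rfl⟩
      refine h.hom_ext ?_ ?_
      · rw [h1, toFree_comp]; rfl
      · rw [h2, toFree_comp]; rfl
    · intro hs
      constructor
      · have e := congrArg (fun k : U₁ ⟶ freeSpace P V => k) h1
        rw [← hs, toFree_comp] at e
        have e1 := toFree_univSec V (f.base ≫ 𝟙 P.carrier) (f.c.app (op V) s)
        have e2 := toFree_univSec V f.base a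
        have e3 := congr($(PresheafedSpace.congr_app e (op V)) (univSec P V))
        erw [CommRingCat.comp_apply] at e3
        erw [e1, e2] at e3
        refine e3.trans ?_
        rw [eqToHom_refl, CategoryTheory.Functor.map_id]
        rfl
      · have e := congrArg (fun k : U₂ ⟶ freeSpace P V => k) h2
        rw [← hs, toFree_comp] at e
        have e1 := toFree_univSec V (g.base ≫ 𝟙 P.carrier) (g.c.app (op V) s)
        have e2 := toFree_univSec V g.base b
        have e3 := congr($(PresheafedSpace.congr_app e (op V)) (univSec P V))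
        erw [CommRingCat.comp_apply] at e3
        erw [e1, e2] at e3
        refine e3.trans ?_
        rw [eqToHom_refl, CategoryTheory.Functor.map_id]
        rfl
  let s₀ : P.presheaf.obj (op V) := P.presheaf.map (eqToHom (congrArg (fun k => op ((Opens.map k).obj V)) hbase))
    (δ.c.app (op V) (univSec P V))
  have hs₀ : toFree V (𝟙 P.carrier) s₀ = δ :=
    ((toFree_eq V δ).trans (toFree_congr V hbase _ s₀ rfl)).symm
  refine ⟨s₀, (key s₀).2 hs₀, fun t ht => ?_⟩
  have e := ((key t).1 ht).trans hs₀.symm
  have e3 := congr($(PresheafedSpace.congr_app e (op V)) (univSec P V))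
  erw [CommRingCat.comp_apply, toFree_univSec, toFree_univSec] at e3
  rw [e3, eqToHom_refl, CategoryTheory.Functor.map_id]
  rfl

/-- Transporting back and forth is the identity. -/
theorem map_loop_eq_self {T : TopCat.{u}} (F : T.Presheaf CommRingCat.{u}) {a b : (Opens T)ᵒᵖ} (e : a ⟶ b)
    (e' : b ⟶ a) (x : F.obj a) : F.map e' (F.map e x) = x := by
  rw [← CommRingCat.comp_apply, ← Functor.map_comp, Subsingleton.elim (e ≫ e') (𝟙 _), CategoryTheory.Functor.map_id,
    CommRingCat.id_apply]

variable {X Z Z' X' : Scheme.{u}} {ι : Z ⟶ X} {q : Z ⟶ Z'} {π : X ⟶ X'} {ι' : Z' ⟶ X'}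

/-- Scheme form: sections of a pinched scheme form a fibre square. -/
theorem existsUnique_section_scheme
    (hpo : IsPushout ((Scheme.forgetToLocallyRingedSpace ⋙ LocallyRingedSpace.forgetToSheafedSpace).map ι)
      ((Scheme.forgetToLocallyRingedSpace ⋙ LocallyRingedSpace.forgetToSheafedSpace).map q)
      ((Scheme.forgetToLocallyRingedSpace ⋙ LocallyRingedSpace.forgetToSheafedSpace).map π)
      ((Scheme.forgetToLocallyRingedSpace ⋙ LocallyRingedSpace.forgetToSheafedSpace).map ι'))
    (hw : ι ≫ π = q ≫ ι') (V : X'.Opens) (a : Γ(X, π ⁻¹ᵁ V)) (b : Γ(Z', ι' ⁻¹ᵁ V))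
    (hab : ι.app (π ⁻¹ᵁ V) a =
      Z.presheaf.map (eqToHom (show ι ⁻¹ᵁ π ⁻¹ᵁ V = q ⁻¹ᵁ ι' ⁻¹ᵁ V by
        rw [← Scheme.Hom.comp_preimage, ← Scheme.Hom.comp_preimage, hw])).op (q.app (ι' ⁻¹ᵁ V) b)) :
    ∃! s : Γ(X', V), π.app V s = a ∧ ι'.app V s = b := by
  refine existsUnique_section (hpo.map SheafedSpace.forgetToPresheafedSpace) V a b ?_
  exact (congrArg _ hab).trans (map_loop_eq_self Z.presheaf _ _ _)

end Groth.Agent.PinchH7
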