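import Groth.Prelude.Def_EtMil
import Groth.Agent.Lib.FlatSyz.ProjDim
import Groth.Agent.Lib.GrFlat.Basic

/-!
# The exact sequence of a fibre square
-/

universe u

open TensorProduct

namespace Groth.Agent.PinchH7

variable (R B' B A' A : Type u) [CommRing R] [CommRing B'] [CommRing B] [CommRing A'] [CommRing A]
    [Algebra B' B] [Algebra B' A'] [Algebra B A] [Algebra A' A] [Algebra B' A]
    [IsScalarTower B' B A] [IsScalarTower B' A' A]
    [Algebra R B'] [Algebra R B] [Algebra R A'] [Algebra R A]
    [IsScalarTower R B' B] [IsScalarTower R B' A'] [IsScalarTower R B' A] [IsScalarTower R B A] [IsScalarTower R A' A]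

/-- `B' → B × A'`. -/
noncomputable def sqIncl : B' →ₗ[R] B × A' :=
  (IsScalarTower.toAlgHom R B' B).toLinearMap.prod (IsScalarTower.toAlgHom R B' A').toLinearMap

/-- `B × A' → A`, `(b, a') ↦ b - a'`. -/
noncomputable def sqDiff : B × A' →ₗ[R] A :=
  (IsScalarTower.toAlgHom R B A).toLinearMap.coprod (-(IsScalarTower.toAlgHom R A' A).toLinearMap)

variable {R B' B A' A}

theorem sqDiff_apply (x : B × A') :
    sqDiff R B A' A x = algebraMap B A x.1 - algebraMap A' A x.2 := by
  simp [sqDiff, LinearMap.coprod_apply, sub_eq_add_neg]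

theorem sqDiff_surjective (hsq : EtMil.IsFibreSquare B' B A' A) :
    Function.Surjective (sqDiff R B A' A) := fun a => by
  obtain ⟨a', ha'⟩ := hsq.1 (-a)
  exact ⟨(0, a'), by simp [sqDiff_apply, ha']⟩

theorem sqIncl_injective (hsq : EtMil.IsFibreSquare B' B A' A) :
    Function.Injective (sqIncl R B' B A') := by
  intro x y h
  have hc : algebraMap B A (algebraMap B' B x) = algebraMap A' A (algebraMap B' A' x) := by
    rw [← IsScalarTower.algebraMap_apply, ← IsScalarTower.algebraMap_apply]
  have h1 : algebraMap B' B x = algebraMap B' B y := congrArg Prod.fst h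
  have h2 : algebraMap B' A' x = algebraMap B' A' y := congrArg Prod.snd h
  exact (hsq.2 _ _ hc).unique ⟨rfl, rfl⟩ ⟨h1.symm, h2.symm⟩

theorem sq_exact (hsq : EtMil.IsFibreSquare B' B A' A) :
    Function.Exact (sqIncl R B' B A') (sqDiff R B A' A) := by
  intro x
  rw [sqDiff_apply, sub_eq_zero]
  constructor
  · intro h
    obtain ⟨b', ⟨h1, h2⟩, -⟩ := hsq.2 _ _ h
    exact ⟨b', Prod.ext h1 h2⟩
  · rintro ⟨b', rfl⟩
    simp [sqIncl, ← IsScalarTower.algebraMap_apply]

theorem flat_prod [Module.Flat R B] [Module.Flat R A'] : Module.Flat R (B × A') :=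
  Groth.Agent.GrFlat.flat_middle (LinearMap.inl R B A') LinearMap.inl_injective (LinearMap.snd R B A')
    Function.Exact.inl_snd LinearMap.snd_surjective

end Groth.Agent.PinchH7
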